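import Mathlib.AlgebraicGeometry.IdealSheaf.Basic
import Mathlib.AlgebraicGeometry.Noetherian
import Mathlib.Topology.LocallyConstant.Basic
import Mathlib.Tactic.LinearCombination
import Mathlib.Tactic.FieldSimp

/-!
# Effective Cartier divisors which are locally proportional
-/

set_option autoImplicit false
universe u

open CategoryTheory AlgebraicGeometry TopologicalSpace

noncomputable section

namespace CDivRatioLib

variable {X : Scheme.{u}}

/-- The ideal in the local ring. -/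
def stI (I : X.IdealSheafData) (U : X.affineOpens) (x : X) (hx : x ∈ U.1) : Ideal (X.presheaf.stalk x) :=
  (I.ideal U).map (X.presheaf.germ U.1 x hx).hom

theorem stI_mono (I : X.IdealSheafData) {U V : X.affineOpens} (h : U ≤ V) (x : X) (hx : x ∈ U.1) :
    stI I U x hx = stI I V x (h hx) := by
  rw [stI, stI, ← I.map_ideal h, Ideal.map_map]
  congr 1
  exact congrArg CommRingCat.Hom.hom (X.presheaf.germ_res (homOfLE h) x hx)

theorem stI_eq (I : X.IdealSheafData) (U V : X.affineOpens) (x : X) (hU : x ∈ U.1) (hV : x ∈ V.1) :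
    stI I U x hU = stI I V x hV := by
  obtain ⟨W, hW, hxW, hle⟩ := exists_isAffineOpen_mem_and_subset (x := x) (U := U.1 ⊓ V.1) ⟨hU, hV⟩
  rw [← stI_mono I (U := ⟨W, hW⟩) (V := U) (fun y hy => (hle hy).1) x hxW,
    stI_mono I (U := ⟨W, hW⟩) (V := V) (fun y hy => (hle hy).2) x hxW]

theorem stI_ne_top (I : X.IdealSheafData) (U : X.affineOpens) (x : X) (hx : x ∈ U.1) (hs : x ∈ I.support) :
    stI I U x hx ≠ ⊤ := by
  have h : x ∈ X.zeroLocus (U := U.1) (I.ideal U) := (I.mem_support_iff_of_mem hx).1 hs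
  refine ne_top_of_le_ne_top (IsLocalRing.maximalIdeal.isMaximal (X.presheaf.stalk x)).ne_top
    (Ideal.map_le_iff_le_comap.2 fun s hs' => ?_)
  rw [Ideal.mem_comap, IsLocalRing.mem_maximalIdeal, mem_nonunits_iff]
  intro hu
  exact (Scheme.mem_zeroLocus_iff X _ x).1 h s hs' ((X.mem_basicOpen s x hx).2 hu)

theorem ideal_eq_top (I : X.IdealSheafData) (U : X.affineOpens) (h : ∀ x ∈ U.1, x ∉ I.support) :
    I.ideal U = ⊤ := by
  rw [← PrimeSpectrum.zeroLocus_empty_iff_eq_top, Set.eq_empty_iff_forall_notMem]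
  intro p hp
  have hp' : U.2.fromSpec p ∈ U.2.fromSpec '' PrimeSpectrum.zeroLocus (I.ideal U : Set Γ(X, U.1)) := ⟨p, hp, rfl⟩
  rw [U.2.fromSpec_image_zeroLocus] at hp'
  exact h _ hp'.2 ((I.mem_support_iff_of_mem hp'.2).2 hp'.1)

theorem pow_span_inj {A : Type*} [CommRing A] [IsLocalRing A] {g : A} (hg : g ∈ nonZeroDivisors A)
    (hne : Ideal.span ({g} : Set A) ≠ ⊤) {a b : ℕ} (h : Ideal.span ({g} : Set A) ^ a = Ideal.span {g} ^ b) :
    a = b := by
  by_contra hab
  wlog hlt : a < b generalizing a b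
  · exact this h.symm (Ne.symm hab) (by omega)
  rw [Ideal.span_singleton_pow, Ideal.span_singleton_pow] at h
  obtain ⟨c, hc⟩ := Ideal.mem_span_singleton'.1 (h.le (Ideal.mem_span_singleton_self _))
  have : c * g ^ (b - a) = 1 := by
    have h2 : (c * g ^ (b - a) - 1) * g ^ a = 0 := by
      rw [sub_mul, one_mul, mul_assoc, ← pow_add, Nat.sub_add_cancel hlt.le, hc, sub_self]
    exact sub_eq_zero.1 ((pow_mem hg a).2 _ h2)
  exact hne (Ideal.span_singleton_eq_top.2
    ((isUnit_pow_iff (n := b - a) (by omega)).1 (IsUnit.of_mul_eq_one c ((mul_comm _ _).trans this))))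

theorem exists_generator (I : X.IdealSheafData)
    (hI : ∀ x : X, ∃ U : X.affineOpens, x ∈ (U : X.Opens) ∧ ∃ g : Γ(X, U), g ∈ nonZeroDivisors Γ(X, U) ∧ I.ideal U = Ideal.span {g})
    (U : X.affineOpens) (x : X) (hx : x ∈ U.1) :
    ∃ g ∈ nonZeroDivisors (X.presheaf.stalk x), stI I U x hx = Ideal.span {g} := by
  obtain ⟨V, hV, g, hg, e⟩ := hI x
  refine ⟨X.presheaf.germ V.1 x hV g, ?_, ?_⟩
  · letI := TopCat.Presheaf.algebra_section_stalk X.presheaf ⟨x, hV⟩
    haveI := V.2.isLocalization_stalk ⟨x, hV⟩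
    exact IsLocalization.map_nonZeroDivisors_le (V.2.primeIdealOf ⟨x, hV⟩).asIdeal.primeCompl
      (X.presheaf.stalk x) (Submonoid.mem_map_of_mem _ hg)
  · rw [stI_eq I U V x hx hV, stI, e, Ideal.map_span, Set.image_singleton]

/-- Two pairs of exponents which work at a point of the supports are proportional. -/
theorem cross_eq (D E : X.IdealSheafData)
    (hD : ∀ x : X, ∃ U : X.affineOpens, x ∈ (U : X.Opens) ∧ ∃ g : Γ(X, U), g ∈ nonZeroDivisors Γ(X, U) ∧ D.ideal U = Ideal.span {g})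
    (hE : ∀ x : X, ∃ U : X.affineOpens, x ∈ (U : X.Opens) ∧ ∃ g : Γ(X, U), g ∈ nonZeroDivisors Γ(X, U) ∧ E.ideal U = Ideal.span {g})
    {x : X} (hs : x ∈ (D.support : Set X) ∪ (E.support : Set X))
    (U V : X.affineOpens) (hU : x ∈ U.1) (hV : x ∈ V.1) {m n m' n' : ℕ}
    (h : D.ideal U ^ m = E.ideal U ^ n) (h' : D.ideal V ^ m' = E.ideal V ^ n') :
    m * n' = m' * n := by
  have e : stI D U x hU ^ m = stI E U x hU ^ n := by
    rw [stI, stI, ← Ideal.map_pow, h, Ideal.map_pow]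
  have e' : stI D U x hU ^ m' = stI E U x hU ^ n' := by
    rw [stI_eq D U V x hU hV, stI_eq E U V x hU hV, stI, stI, ← Ideal.map_pow, h', Ideal.map_pow]
  rcases hs with hs | hs
  · obtain ⟨g, hg, eg⟩ := exists_generator D hD U x hU
    have hne := stI_ne_top D U x hU hs
    rw [eg] at hne e e'
    refine pow_span_inj hg hne ?_
    rw [pow_mul, e, ← pow_mul, mul_comm n n', pow_mul, ← e', ← pow_mul]
  · obtain ⟨g, hg, eg⟩ := exists_generator E hE U x hU
    have hne := stI_ne_top E U x hU hs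
    rw [eg] at hne e e'
    have := pow_span_inj hg hne (a := n * m') (b := n' * m) (by
      rw [pow_mul, ← e, ← pow_mul, mul_comm m m', pow_mul, e', ← pow_mul])
    linarith

theorem exists_global (D E : X.IdealSheafData) [AlgebraicGeometry.IsNoetherian X]
    (hD : ∀ x : X, ∃ U : X.affineOpens, x ∈ (U : X.Opens) ∧ ∃ g : Γ(X, U), g ∈ nonZeroDivisors Γ(X, U) ∧ D.ideal U = Ideal.span {g})
    (hE : ∀ x : X, ∃ U : X.affineOpens, x ∈ (U : X.Opens) ∧ ∃ g : Γ(X, U), g ∈ nonZeroDivisors Γ(X, U) ∧ E.ideal U = Ideal.span {g})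
    (hconn : IsPreconnected ((D.support : Set X) ∪ (E.support : Set X)))
    (hloc : ∀ x : X, ∃ U : X.affineOpens, x ∈ (U : X.Opens) ∧
      ∃ m n : ℕ, (m, n) ≠ (0, 0) ∧ D.ideal U ^ m = E.ideal U ^ n) :
    ∃ m n : ℕ, (m, n) ≠ (0, 0) ∧ ∀ U : X.affineOpens, D.ideal U ^ m = E.ideal U ^ n := by
  classical
  choose U hU m n hne heq using hloc
  have hpos : ∀ x, 0 < m x + n x := fun x => by
    by_contra h
    exact hne x (by simp [show m x = 0 by omega, show n x = 0 by omega])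
  let S : Set X := (D.support : Set X) ∪ (E.support : Set X)
  let r : S → ℚ := fun x => (m x.1 : ℚ) / (m x.1 + n x.1 : ℕ)
  have hprop : ∀ x y : X, y ∈ S → y ∈ (U x).1 → m x * n y = m y * n x := fun x y hy hxy =>
    cross_eq D E hD hE hy (U x) (U y) hxy (hU y) (heq x) (heq y)
  have hr : IsLocallyConstant r := by
    refine (IsLocallyConstant.iff_exists_open r).2 fun x => ⟨Subtype.val ⁻¹' (U x.1 : Set X),
      (U x.1).1.isOpen.preimage continuous_subtype_val, hU x.1, fun y hy => ?_⟩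
    have e : (m x.1 : ℚ) * n y.1 = m y.1 * n x.1 := by exact_mod_cast hprop x.1 y.1 y.2 hy
    have h1 : ((m x.1 + n x.1 : ℕ) : ℚ) ≠ 0 := by exact_mod_cast (hpos x.1).ne'
    have h2 : ((m y.1 + n y.1 : ℕ) : ℚ) ≠ 0 := by exact_mod_cast (hpos y.1).ne'
    simp only [r]
    rw [div_eq_div_iff h2 h1]
    push_cast
    linear_combination -e
  haveI : PreconnectedSpace S := Subtype.preconnectedSpace hconn
  obtain ⟨a, b, hab, hS⟩ : ∃ a b : ℕ, 0 < a + b ∧ ∀ x, x ∈ S → m x * (a + b) = a * (m x + n x) := by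
    rcases S.eq_empty_or_nonempty with hS | ⟨z, hz⟩
    · exact ⟨1, 0, one_pos, fun x hx => by rw [hS] at hx; exact hx.elim⟩
    · refine ⟨m z, n z, hpos z, fun x hx => ?_⟩
      have e := hr.apply_eq_of_preconnectedSpace ⟨x, hx⟩ ⟨z, hz⟩
      simp only [r] at e
      rw [div_eq_div_iff (by exact_mod_cast (hpos x).ne') (by exact_mod_cast (hpos z).ne')] at e
      exact_mod_cast e
  obtain ⟨T, hT⟩ := CompactSpace.isCompact_univ.elim_finite_subcover (fun x : X => ((U x).1 : Set X))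
    (fun x => (U x).1.isOpen) (fun x _ => Set.mem_iUnion.2 ⟨x, hU x⟩)
  let L := ∏ x ∈ T, (m x + n x)
  have hL : 0 < L := Finset.prod_pos fun x _ => hpos x
  refine ⟨a * L, b * L, fun h => ?_, ?_⟩
  · simp only [Prod.mk.injEq, mul_eq_zero] at h
    omega
  suffices h : D ^ (a * L) = E ^ (b * L) by
    intro V
    have h2 := congrArg (fun I => Scheme.IdealSheafData.ideal I V) h
    simpa only [Scheme.IdealSheafData.ideal_pow, Pi.pow_apply] using h2
  refine Scheme.IdealSheafData.ext_of_iSup_eq_top (fun x : T => U x.1) (top_le_iff.1 fun y _ => ?_) fun x => ?_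
  · obtain ⟨x, hx⟩ := Set.mem_iUnion.1 (hT (Set.mem_univ y))
    obtain ⟨hxT, hx'⟩ := Set.mem_iUnion.1 hx
    exact TopologicalSpace.Opens.mem_iSup.2 ⟨⟨x, hxT⟩, hx'⟩
  simp only [Scheme.IdealSheafData.ideal_pow, Pi.pow_apply]
  by_cases hmeet : ∃ y ∈ S, y ∈ (U x.1).1
  · obtain ⟨y, hyS, hy⟩ := hmeet
    have e1 : m x.1 * n y = m y * n x.1 := hprop x.1 y hyS hy
    have e2 := hS y hyS
    have e3 : m x.1 * (a + b) = a * (m x.1 + n x.1) := by
      refine Nat.eq_of_mul_eq_mul_right (hpos y) ?_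
      linear_combination (m x.1 + n x.1) * e2 + (a + b) * e1
    have e4 : n x.1 * (a + b) = b * (m x.1 + n x.1) := by linarith
    obtain ⟨c, hc⟩ : m x.1 + n x.1 ∣ L := Finset.dvd_prod_of_mem _ x.2
    rw [show a * L = m x.1 * ((a + b) * c) by rw [hc, ← mul_assoc, ← e3, mul_assoc],
      show b * L = n x.1 * ((a + b) * c) by rw [hc, ← mul_assoc, ← e4, mul_assoc], pow_mul, heq x.1, ← pow_mul]
  · rw [ideal_eq_top D (U x.1) fun y hy hs => hmeet ⟨y, Or.inl hs, hy⟩,
      ideal_eq_top E (U x.1) fun y hy hs => hmeet ⟨y, Or.inr hs, hy⟩]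
    simp [Ideal.top_pow]

end CDivRatioLib
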